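import Cfsg.Agent.Lib.CosetEnum.Defs

/-!
# Coset enumeration with values in a central kernel: the checks

A fact `(u, g, v)` with value `a` is read as `y g • φ u = ev a • φ v` for lifts `y` of involutions to a central
extension acting on the cosets of a subgroup that meets the kernel trivially; here `a` is a vector of
exponents of central elements, of order dividing `m` (`m = 0`: no bound). A closed path then gives a
relation between the central elements.
-/

set_option autoImplicit false

namespace Cfsg.Lib.CosetEnum.Stem

/-- Sum of two vectors, padded with zeros. -/
def vadd : List Int → List Int → List Int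
  | [], b => b
  | a, [] => a
  | x :: a, y :: b => (x + y) :: vadd a b

/-- A multiple of a vector. -/
def vscale (c : Int) (a : List Int) : List Int := a.map fun x => c * x

/-- Difference of two vectors. -/
def vsub (a b : List Int) : List Int := vadd a (vscale (-1) b)

/-- All entries are divisible by the modulus. -/
def vzero (m : Nat) (a : List Int) : Bool := a.all fun x => decide (x % Int.ofNat m = 0)

/-- Decode a vector from its digits. -/
def dec (W : Nat) : Nat → Nat → List Int
  | 0, _ => []
  | d + 1, v => (Int.ofNat (v % W) - Int.ofNat (W / 2)) :: dec W d (v / W)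

/-- A certificate. -/
structure VCert where
  /-- Relator words. -/
  R : List (List Nat)
  /-- Their values. -/
  RV : List (List Int)
  /-- Subgroup words. -/
  U : List (List Nat)
  /-- Facts. -/
  F : Tab
  /-- Steps. -/
  C : Tab
  /-- Values of the facts. -/
  V : Tab
  /-- Number of node definitions. -/
  d : Nat
  /-- Number of steps. -/
  e : Nat
  /-- Length of the vectors. -/
  dim : Nat
  /-- Digit bound. -/
  W : Nat
  /-- Modulus. -/
  m : Nat
  /-- Closed paths and the vectors they kill. -/
  eqs : List (List Nat × List Int)

/-- The value of a fact. -/
noncomputable def VCert.valAt (c : VCert) (r : Nat) : List Int :=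
  force (c.V.get r) fun v => dec c.W c.dim v

/-- Follow facts from a node; returns the end node, the word read and the value. -/
noncomputable def vwalk (c : VCert) (bound : Nat) :
    List Nat → Nat → Option (Nat × List Nat × List Int)
  | [], cur => some (cur, [], [])
  | r :: rs, cur =>
    cond (Nat.blt r bound)
      (force (c.F.getP r) fun f =>
        cond (Nat.beq (fu f) cur)
          (force (fv f) fun nx => match vwalk c bound rs nx with
            | some (e, w, a) => some (e, consG (fg f) w, vadd (c.valAt r) a)
            | none => none)
          (cond (Nat.beq (fv f) cur)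
            (force (fu f) fun nx => match vwalk c bound rs nx with
              | some (e, w, a) => some (e, consG (fg f) w, vsub a (c.valAt r))
              | none => none)
            none))
      none

/-- Check a derived fact and its value. -/
noncomputable def vstepOK (c : VCert) (i : Nat) : List Nat → Bool
  | k :: s :: p :: refs =>
    (Nat.blt k c.R.length || Nat.beq s 0) &&
      match vwalk c i (refs.take p) s, vwalk c i (refs.drop p) s with
      | some (u, w, a), some (v, w', a') =>
        Nat.beq (fu (c.F.getP i)) u && Nat.beq (fv (c.F.getP i)) v &&
          beqW (w ++ consG (fg (c.F.getP i)) w'.reverse) ((c.R ++ c.U).getD k [eps]) &&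
          vzero c.m (vsub (c.valAt i) (vadd (c.RV.getD k []) (vsub a' a)))
      | _, _ => false
  | _ => false

/-- Check a range of derived facts. -/
noncomputable def vstepsOK (c : VCert) : Nat → Nat → Bool
  | 0, _ => true
  | n + 1, j => force j fun j =>
      vstepOK c (c.d + j) (digits 400 (c.C.get j)) && vstepsOK c n (j + 1)

/-- Check a range of node definitions. -/
noncomputable def vdefsOK (c : VCert) : Nat → Nat → Bool
  | 0, _ => true
  | n + 1, j => force j fun j => defOK c.F j && vzero c.m (c.valAt j) && vdefsOK c n (j + 1)

/-- Check a closed path. -/
noncomputable def veqOK (c : VCert) : List Nat × List Int → Bool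
  | (k :: s :: p :: refs, t) =>
    (Nat.blt k c.R.length || Nat.beq s 0) &&
      match vwalk c (c.d + c.e) (refs.take p) s, vwalk c (c.d + c.e) (refs.drop p) s with
      | some (u, w, a), some (v, w', a') =>
        Nat.beq u v && beqW (w ++ w'.reverse) ((c.R ++ c.U).getD k [eps]) &&
          vzero c.m (vsub t (vsub (vsub a a') (c.RV.getD k [])))
      | _, _ => false
  | _ => false

/-- A word is the given rotation of a relator or of a reversed relator, with the given value. -/
def srcOK1 (R0 : List (List Nat)) (RV0 : List (List Int)) (m : Nat) (r : List Nat) (rv : List Int)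
    (s : Nat × Nat × Bool) : Bool :=
  Nat.blt s.1 R0.length &&
  cond s.2.2
    (beqW r ((R0.getD s.1 []).reverse.drop s.2.1 ++ (R0.getD s.1 []).reverse.take s.2.1) &&
      vzero m (vadd rv (RV0.getD s.1 [])))
    (beqW r ((R0.getD s.1 []).drop s.2.1 ++ (R0.getD s.1 []).take s.2.1) &&
      vzero m (vsub rv (RV0.getD s.1 [])))

/-- All words of a list are such rotations. -/
def srcOK (R0 : List (List Nat)) (RV0 : List (List Int)) (m : Nat) (R : List (List Nat))
    (RV : List (List Int)) (src : List (Nat × Nat × Bool)) : Bool :=
  Nat.beq RV.length R.length &&
  (List.range R.length).all fun j => srcOK1 R0 RV0 m (R.getD j []) (RV.getD j []) (src.getD j (0, 0, false))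

/-- A vector is a combination of killed vectors and of differences of values of equal words. -/
def combOK (m : Nat) (R : List (List Nat)) (RV : List (List Int)) (E : List (List Int)) (t : List Int)
    (cs : List Int) (ds : List (Nat × Nat × Int)) : Bool :=
  (ds.all fun d => Nat.blt d.1 R.length && Nat.blt d.2.1 R.length &&
    beqW (R.getD d.1 []) (R.getD d.2.1 [])) &&
  vzero m (vsub t (vadd ((cs.zip E).foldr (fun p acc => vadd (vscale p.1 p.2) acc) [])
    (ds.foldr (fun d acc => vadd (vscale d.2.2 (vsub (RV.getD d.1 []) (RV.getD d.2.1 []))) acc) [])))

/-- Chunks of steps can be checked separately. -/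
theorem vstepsOK_append {c : VCert} : ∀ {m n j : Nat},
    vstepsOK c m j = true → vstepsOK c n (j + m) = true → vstepsOK c (m + n) j = true
  | 0, n, j, _, h => by simpa using h
  | m + 1, n, j, h, h' => by
    rw [vstepsOK, force_eq, Bool.and_eq_true] at h
    rw [show m + 1 + n = (m + n) + 1 by omega, vstepsOK, force_eq, Bool.and_eq_true]
    exact ⟨h.1, vstepsOK_append h.2 (by rwa [show j + 1 + m = j + (m + 1) by omega])⟩

/-- Chunks of definitions can be checked separately. -/
theorem vdefsOK_append {c : VCert} : ∀ {a b i : Nat},
    vdefsOK c a i = true → vdefsOK c b (i + a) = true → vdefsOK c (a + b) i = true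
  | 0, b, i, _, h => by simpa using h
  | a + 1, b, i, h, h' => by
    rw [vdefsOK, force_eq, Bool.and_eq_true] at h
    rw [show a + 1 + b = (a + b) + 1 by omega, vdefsOK, force_eq, Bool.and_eq_true]
    exact ⟨h.1, vdefsOK_append h.2 (by rwa [show i + 1 + a = i + (a + 1) by omega])⟩

end Cfsg.Lib.CosetEnum.Stem
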