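import Cfsg.Agent.Lib.CosetEnum.Stem.Defs
import Cfsg.Agent.Lib.CosetEnum.Index

/-!
# Coset enumeration with values in a central kernel: soundness
-/

set_option autoImplicit false

namespace Cfsg.Lib.CosetEnum.Stem

open scoped IsMulCommutative

variable {Q : Type*} [Group Q]

/-- The central element with given exponents. -/
def ev : List (Subgroup.center Q) → List ℤ → Subgroup.center Q
  | w :: ω, x :: a => w ^ x * ev ω a
  | _, _ => 1

@[simp] theorem ev_nil (ω : List (Subgroup.center Q)) : ev ω [] = 1 := by cases ω <;> rfl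

theorem ev_vadd : ∀ (ω : List (Subgroup.center Q)) (a b : List ℤ), ev ω (vadd a b) = ev ω a * ev ω b
  | [], a, b => by simp [ev]
  | w :: ω, [], b => by simp [vadd]
  | w :: ω, x :: a, [] => by simp [vadd]
  | w :: ω, x :: a, y :: b => by
    rw [vadd, ev, ev, ev, ev_vadd ω a b, zpow_add]
    exact mul_mul_mul_comm _ _ _ _

theorem ev_vscale : ∀ (ω : List (Subgroup.center Q)) (c : ℤ) (a : List ℤ),
    ev ω (vscale c a) = ev ω a ^ c
  | [], c, a => by simp [ev]
  | w :: ω, c, [] => by simp [vscale]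
  | w :: ω, c, x :: a => by
    have h : vscale c (x :: a) = c * x :: vscale c a := rfl
    rw [h, ev, ev, ev_vscale ω c a, mul_zpow, ← zpow_mul, mul_comm c x]

theorem ev_vsub (ω : List (Subgroup.center Q)) (a b : List ℤ) :
    ev ω (vsub a b) = ev ω a / ev ω b := by
  rw [vsub, ev_vadd, ev_vscale, zpow_neg, zpow_one, div_eq_mul_inv]

theorem ev_eq_one_of_vzero {m : ℕ} : ∀ {ω : List (Subgroup.center Q)} {a : List ℤ},
    (∀ w ∈ ω, w ^ m = 1) → vzero m a = true → ev ω a = 1
  | [], a, _, _ => by cases a <;> rfl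
  | w :: ω, [], _, _ => rfl
  | w :: ω, x :: a, hω, h => by
    simp only [vzero, List.all_cons, Bool.and_eq_true, decide_eq_true_eq] at h
    obtain ⟨hx, ha⟩ := h
    obtain ⟨q, rfl⟩ := Int.dvd_of_emod_eq_zero hx
    rw [ev, ev_eq_one_of_vzero (fun v hv => hω v (List.mem_cons_of_mem _ hv)) ha, mul_one, zpow_mul,
      Int.ofNat_eq_natCast, zpow_natCast, hω w (List.mem_cons_self ..), one_zpow]

theorem ev_eq_of_vzero {m : ℕ} {ω : List (Subgroup.center Q)} {a b : List ℤ}
    (hω : ∀ w ∈ ω, w ^ m = 1) (h : vzero m (vsub a b) = true) : ev ω a = ev ω b :=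
  div_eq_one.1 ((ev_vsub ω a b).symm.trans (ev_eq_one_of_vzero hω h))

/-- Rotations of relators have the listed values. -/
theorem src_val {y : ℕ → Q} (hy : ∀ g, y g * y g = 1) {ω : List (Subgroup.center Q)} {m : ℕ}
    (hω : ∀ w ∈ ω, w ^ m = 1) {R0 : List (List ℕ)} {RV0 : List (List ℤ)}
    (hR0 : ∀ i < R0.length, wordVal y (R0.getD i []) = (ev ω (RV0.getD i []) : Q))
    {R : List (List ℕ)} {RV : List (List ℤ)} {src : List (ℕ × ℕ × Bool)}
    (h : srcOK R0 RV0 m R RV src = true) :
    ∀ j < R.length, wordVal y (R.getD j []) = (ev ω (RV.getD j []) : Q) := by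
  intro j hj
  simp only [srcOK, Bool.and_eq_true, List.all_eq_true, List.mem_range] at h
  have hs := h.2 j hj
  generalize src.getD j (0, 0, false) = q at hs
  obtain ⟨i, k, b⟩ := q
  simp only [srcOK1, Bool.and_eq_true, Nat.blt_eq] at hs
  obtain ⟨hi, hs⟩ := hs
  have rot : ∀ (l : List ℕ) (z : Subgroup.center Q), wordVal y l = (z : Q) →
      wordVal y (l.drop k ++ l.take k) = (z : Q) := by
    intro l z hl
    rw [← List.take_append_drop k l, wordVal_append] at hl
    rw [wordVal_append]
    set p := wordVal y (l.take k)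
    set q := wordVal y (l.drop k)
    calc p * q = p * (q * p) * p⁻¹ := by group
      _ = p * z * p⁻¹ := by rw [hl]
      _ = z := by rw [Subgroup.mem_center_iff.1 z.2 p, mul_inv_cancel_right]
  cases b with
  | false =>
    simp only [cond_false, cond_true, Bool.and_eq_true] at hs
    rw [beqW_eq hs.1, rot _ _ (hR0 i hi), ev_eq_of_vzero hω hs.2]
  | true =>
    simp only [cond_false, cond_true, Bool.and_eq_true] at hs
    rw [beqW_eq hs.1]
    refine (rot _ (ev ω (RV0.getD i []))⁻¹ ?_).trans ?_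
    · rw [wordVal_reverse hy, hR0 i hi]
      rfl
    · have := ev_eq_one_of_vzero hω hs.2
      rw [ev_vadd, mul_eq_one_iff_eq_inv] at this
      rw [this]

/-- The facts below `bound` hold. -/
def VHolds {α : Type*} [MulAction Q α] (y : ℕ → Q) (ω : List (Subgroup.center Q)) (c : VCert)
    (φ : ℕ → α) (bound : ℕ) : Prop :=
  ∀ r < bound, gen y (fg (c.F.getP r)) • φ (fu (c.F.getP r)) =
    (ev ω (c.valAt r) : Q) • φ (fv (c.F.getP r))

variable {α : Type*} [MulAction Q α]

theorem center_smul_comm (z : Subgroup.center Q) (q : Q) (a : α) :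
    q • (z : Q) • a = (z : Q) • q • a := by
  rw [smul_smul, smul_smul, Subgroup.mem_center_iff.1 z.2 q]

theorem act_center_smul (y : ℕ → Q) (z : Subgroup.center Q) (w : List ℕ) (a : α) :
    act y w ((z : Q) • a) = (z : Q) • act y w a := by
  rw [act_eq_smul, act_eq_smul, center_smul_comm]

theorem vwalk_sound {y : ℕ → Q} (hy : ∀ g, y g * y g = 1) {ω : List (Subgroup.center Q)} {c : VCert}
    {φ : ℕ → α} {bound : ℕ} (h : VHolds y ω c φ bound) : ∀ {rs : List ℕ} {cur e : ℕ} {w : List ℕ}
    {a : List ℤ}, vwalk c bound rs cur = some (e, w, a) →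
      act y w (φ cur) = (ev ω a : Q) • φ e
  | [], cur, e, w, a, hw => by
    simp only [vwalk, Option.some.injEq, Prod.mk.injEq] at hw
    rw [← hw.1, ← hw.2.1, ← hw.2.2]
    simp
  | r :: rs, cur, e, w, a, hw => by
    rw [vwalk] at hw
    cases hr : Nat.blt r bound with
    | false => rw [hr] at hw; simp at hw
    | true =>
      rw [hr, cond_true, force_eq] at hw
      have hf := h r (by simpa [Nat.blt_eq] using hr)
      cases h1 : Nat.beq (fu (c.F.getP r)) cur with
      | true =>
        rw [h1, cond_true, force_eq] at hw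
        split at hw
        · next e' w' a' heq =>
          simp only [Option.some.injEq, Prod.mk.injEq] at hw
          rw [← hw.1, ← hw.2.1, ← hw.2.2, act_consG, ← Nat.eq_of_beq_eq_true h1, hf, act_center_smul,
            vwalk_sound hy h heq, ev_vadd, Subgroup.coe_mul, mul_smul]
        · simp at hw
      | false =>
        rw [h1, cond_false] at hw
        cases h2 : Nat.beq (fv (c.F.getP r)) cur with
        | false => rw [h2] at hw; simp at hw
        | true =>
          rw [h2, cond_true, force_eq] at hw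
          split at hw
          · next e' w' a' heq =>
            simp only [Option.some.injEq, Prod.mk.injEq] at hw
            have hf' : gen y (fg (c.F.getP r)) • φ (fv (c.F.getP r)) =
                ((ev ω (c.valAt r))⁻¹ : Subgroup.center Q) • φ (fu (c.F.getP r)) := by
              rw [Subgroup.smul_def, Subgroup.coe_inv, eq_inv_smul_iff, ← center_smul_comm, ← hf,
                gen_smul_smul hy]
            rw [← hw.1, ← hw.2.1, ← hw.2.2, act_consG, ← Nat.eq_of_beq_eq_true h2, hf', Subgroup.smul_def,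
              act_center_smul, vwalk_sound hy h heq, ev_vsub, div_eq_inv_mul, Subgroup.coe_mul, mul_smul]
          · simp at hw

theorem rel_smul {y : ℕ → Q} {ω : List (Subgroup.center Q)} {c : VCert} {φ : ℕ → α} {k s : ℕ}
    (hRlen : c.RV.length = c.R.length)
    (hR : ∀ j < c.R.length, wordVal y (c.R.getD j []) = (ev ω (c.RV.getD j []) : Q))
    (hU : ∀ r ∈ c.U, act y r (φ 0) = φ 0)
    (hk : Nat.blt k c.R.length = true ∨ Nat.beq s 0 = true) :
    act y ((c.R ++ c.U).getD k [eps]) (φ s) = (ev ω (c.RV.getD k []) : Q) • φ s := by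
  rcases Nat.lt_or_ge k c.R.length with h1 | h1
  · rw [List.getD_append _ _ _ _ h1, act_eq_smul, List.getD_eq_getElem _ _ h1,
      ← List.getD_eq_getElem _ [] h1, hR k h1]
  · rcases hk with hk | hk
    · rw [Nat.blt_eq] at hk; omega
    · rw [Nat.beq_eq] at hk
      subst hk
      rw [List.getD_eq_default c.RV _ (by omega), ev_nil, Subgroup.coe_one, one_smul,
        List.getD_append_right _ _ _ _ h1]
      rcases Nat.lt_or_ge (k - c.R.length) c.U.length with h2 | h2
      · rw [List.getD_eq_getElem _ _ h2]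
        exact hU _ (List.getElem_mem _)
      · rw [List.getD_eq_default _ _ h2]
        simp [gen]

theorem vstep_sound {y : ℕ → Q} (hy : ∀ g, y g * y g = 1) {ω : List (Subgroup.center Q)} {c : VCert}
    (hω : ∀ w ∈ ω, w ^ c.m = 1) (hRlen : c.RV.length = c.R.length)
    (hR : ∀ j < c.R.length, wordVal y (c.R.getD j []) = (ev ω (c.RV.getD j []) : Q))
    {φ : ℕ → α} (hU : ∀ r ∈ c.U, act y r (φ 0) = φ 0) {i : ℕ} (h : VHolds y ω c φ i) :
    ∀ {l : List ℕ}, vstepOK c i l = true → VHolds y ω c φ (i + 1)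
  | [], hc => by simp [vstepOK] at hc
  | [_], hc => by simp [vstepOK] at hc
  | [_, _], hc => by simp [vstepOK] at hc
  | k :: s :: p :: refs, hc => by
    simp only [vstepOK, Bool.and_eq_true, Bool.or_eq_true] at hc
    obtain ⟨hk, hc⟩ := hc
    split at hc
    · next u w a v w' a' hwu hwv =>
      simp only [Bool.and_eq_true, Nat.beq_eq] at hc
      obtain ⟨⟨⟨hu, hv⟩, hword⟩, hval⟩ := hc
      have hrel := rel_smul hRlen hR hU hk
      rw [← beqW_eq hword, act_append, vwalk_sound hy h hwu, act_center_smul, act_consG] at hrel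
      have h1 := congrArg (act y w') hrel
      rw [act_center_smul, act_center_smul, vwalk_sound hy h hwv] at h1
      have h2 := act_reverse_act hy w'.reverse (gen y (fg (c.F.getP i)) • φ u)
      rw [List.reverse_reverse] at h2
      rw [h2] at h1
      intro r hr
      rcases Nat.lt_succ_iff_lt_or_eq.1 hr with hr | hr
      · exact h r hr
      · subst hr
        rw [hu, hv, ev_eq_of_vzero hω hval, ev_vadd, ev_vsub]
        refine ((eq_inv_smul_iff (g := ((ev ω a : Subgroup.center Q) : Q))).2 h1).trans ?_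
        rw [smul_smul, smul_smul, ← Subgroup.coe_inv, ← Subgroup.coe_mul, ← Subgroup.coe_mul]
        congr 2
        rw [div_eq_mul_inv]
        simp [mul_comm, mul_left_comm, mul_assoc]
    · simp at hc

theorem vsteps_sound {y : ℕ → Q} (hy : ∀ g, y g * y g = 1) {ω : List (Subgroup.center Q)} {c : VCert}
    (hω : ∀ w ∈ ω, w ^ c.m = 1) (hRlen : c.RV.length = c.R.length)
    (hR : ∀ j < c.R.length, wordVal y (c.R.getD j []) = (ev ω (c.RV.getD j []) : Q))
    {φ : ℕ → α} (hU : ∀ r ∈ c.U, act y r (φ 0) = φ 0) :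
    ∀ {n j : ℕ}, vstepsOK c n j = true → VHolds y ω c φ (c.d + j) → VHolds y ω c φ (c.d + j + n)
  | 0, j, _, h => h
  | n + 1, j, hc, h => by
    rw [vstepsOK, force_eq, Bool.and_eq_true] at hc
    have := vsteps_sound hy hω hRlen hR hU (n := n) (j := j + 1) hc.2
      (vstep_sound hy hω hRlen hR hU h hc.1)
    rwa [show c.d + (j + 1) + n = c.d + j + (n + 1) by omega] at this

theorem vdefsOK_get {c : VCert} : ∀ {n j : ℕ}, vdefsOK c n j = true →
    ∀ i, j ≤ i → i < j + n → defOK c.F i = true ∧ vzero c.m (c.valAt i) = true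
  | 0, j, _, i, h1, h2 => by omega
  | n + 1, j, hc, i, h1, h2 => by
    rw [vdefsOK, force_eq, Bool.and_eq_true, Bool.and_eq_true] at hc
    rcases Nat.eq_or_lt_of_le h1 with h | h
    · exact h ▸ hc.1
    · exact vdefsOK_get hc.2 i h (by omega)

/-- The checks on a certificate. -/
structure VCert.Valid (c : VCert) : Prop where
  len : Nat.beq c.RV.length c.R.length = true
  defs : vdefsOK c c.d 0 = true
  steps : vstepsOK c c.e 0 = true
  eqs : (c.eqs.all fun l => veqOK c l) = true

/-- The vectors of the closed paths are killed. -/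
theorem VCert.Valid.kills {c : VCert} (hc : c.Valid) {y : ℕ → Q} (hy : ∀ g, y g * y g = 1)
    {ω : List (Subgroup.center Q)} (hω : ∀ w ∈ ω, w ^ c.m = 1)
    (hR : ∀ j < c.R.length, wordVal y (c.R.getD j []) = (ev ω (c.RV.getD j []) : Q))
    (K : Subgroup Q) (hU : ∀ r ∈ c.U, wordVal y r ∈ K)
    (hK : ∀ a : List ℤ, (ev ω a : Q) ∈ K → ev ω a = 1) :
    ∀ l ∈ c.eqs, ev ω l.2 = 1 := by
  classical
  have hRlen := Nat.eq_of_beq_eq_true hc.len
  obtain ⟨φ, hφ0, hφ⟩ := exists_labelling y (((1 : Q) : Q ⧸ K)) (F := c.F) (d := c.d)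
    fun i hi => (vdefsOK_get hc.defs i (Nat.zero_le _) (by omega)).1
  have hU' : ∀ r ∈ c.U, act y r (φ 0) = φ 0 := by
    intro r hr
    rw [hφ0, act_eq_smul]
    show ((wordVal y r * 1 : Q) : Q ⧸ K) = ((1 : Q) : Q ⧸ K)
    rw [QuotientGroup.eq, mul_one, mul_one, inv_mem_iff]
    exact hU r hr
  have hd : VHolds y ω c φ (c.d + 0) := by
    intro r hr
    rw [hφ r (by omega), ev_eq_one_of_vzero hω (vdefsOK_get hc.defs r (Nat.zero_le _) (by omega)).2,
      Subgroup.coe_one, one_smul]
  have hF := vsteps_sound hy hω hRlen hR hU' hc.steps hd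
  simp only [Nat.add_zero] at hF
  intro l hl
  have heq := List.all_eq_true.1 hc.eqs l hl
  obtain ⟨line, t⟩ := l
  match line, heq with
  | [], h => simp [veqOK] at h
  | [_], h => simp [veqOK] at h
  | [_, _], h => simp [veqOK] at h
  | k :: s :: p :: refs, h =>
    simp only [veqOK, Bool.and_eq_true, Bool.or_eq_true] at h
    obtain ⟨hk, h⟩ := h
    split at h
    · next u w a v w' a' hwu hwv =>
      simp only [Bool.and_eq_true, Nat.beq_eq] at h
      obtain ⟨⟨huv, hword⟩, hval⟩ := h
      subst huv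
      have hrel := rel_smul hRlen hR hU' hk
      rw [← beqW_eq hword, act_append, vwalk_sound hy hF hwu, act_center_smul] at hrel
      have h1 := congrArg (act y w') hrel
      rw [act_center_smul, act_center_smul, vwalk_sound hy hF hwv] at h1
      have h2 := act_reverse_act hy w'.reverse (φ u)
      rw [List.reverse_reverse] at h2
      rw [h2, smul_smul, ← eq_inv_smul_iff, smul_smul] at h1
      show ev ω t = 1
      rw [ev_eq_of_vzero hω hval, ev_vsub, ev_vsub, div_eq_one]
      obtain ⟨q, hq⟩ := QuotientGroup.mk_surjective (φ u)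
      have hz : ev ω (vsub (vadd (c.RV.getD k []) a') a) = 1 := by
        refine hK _ ?_
        rw [ev_vsub, ev_vadd, div_eq_inv_mul]
        rw [← hq] at h1
        generalize hZ : ((ev ω a)⁻¹ * (ev ω (c.RV.getD k []) * ev ω a') : Subgroup.center Q) = Z
        have h3 : q⁻¹ * ((Z : Q) * q) ∈ K := by
          refine QuotientGroup.eq.1 (h1.trans ?_)
          rw [← hZ, Subgroup.coe_mul, Subgroup.coe_mul, Subgroup.coe_inv]
          rfl
        rwa [← Subgroup.mem_center_iff.1 (Subtype.prop _) q, inv_mul_cancel_left] at h3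
      rw [ev_vsub, ev_vadd, div_eq_one] at hz
      rw [div_eq_iff_eq_mul, hz]
    · simp at h

/-- A combination of killed vectors is killed. -/
theorem comb_sound {m : ℕ} {y : ℕ → Q} {ω : List (Subgroup.center Q)} (hω : ∀ w ∈ ω, w ^ m = 1)
    {R : List (List ℕ)} {RV : List (List ℤ)}
    (hR : ∀ j < R.length, wordVal y (R.getD j []) = (ev ω (RV.getD j []) : Q))
    {E : List (List ℤ)} (hE : ∀ e ∈ E, ev ω e = 1) {t : List ℤ} {cs : List ℤ} {ds : List (ℕ × ℕ × ℤ)}
    (h : combOK m R RV E t cs ds = true) : ev ω t = 1 := by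
  simp only [combOK, Bool.and_eq_true, List.all_eq_true, Nat.blt_eq] at h
  obtain ⟨hd, hz⟩ := h
  rw [ev_eq_of_vzero hω hz, ev_vadd]
  have h1 : ∀ l : List (ℤ × List ℤ), (∀ p ∈ l, ev ω p.2 = 1) →
      ev ω (l.foldr (fun p acc => vadd (vscale p.1 p.2) acc) []) = 1 := by
    intro l hl
    induction l with
    | nil => simp
    | cons p l ih =>
      rw [List.foldr_cons, ev_vadd, ev_vscale, hl p (List.mem_cons_self ..), one_zpow, one_mul,
        ih fun q hq => hl q (List.mem_cons_of_mem _ hq)]
  have h2 : ∀ l : List (ℕ × ℕ × ℤ), (∀ d ∈ l, ev ω (RV.getD d.1 []) = ev ω (RV.getD d.2.1 [])) →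
      ev ω (l.foldr (fun d acc => vadd (vscale d.2.2 (vsub (RV.getD d.1 []) (RV.getD d.2.1 []))) acc) []) = 1 := by
    intro l hl
    induction l with
    | nil => simp
    | cons p l ih =>
      rw [List.foldr_cons, ev_vadd, ev_vscale, ev_vsub, hl p (List.mem_cons_self ..), div_self', one_zpow,
        one_mul, ih fun q hq => hl q (List.mem_cons_of_mem _ hq)]
  rw [h1 _ (fun p hp => hE _ (List.of_mem_zip hp).2), h2 _ (fun d hd' => Subtype.ext ?_), one_mul]
  obtain ⟨⟨h3, h4⟩, h5⟩ := hd d hd'
  rw [← hR _ h3, ← hR _ h4, beqW_eq h5]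

end Cfsg.Lib.CosetEnum.Stem
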