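import Cfsg.Agent.Lib.CosetEnum.Stem.Twist

/-!
# One stage of a bound on a central kernel

Lifted generators satisfy the relators up to central values; two certificates bound the exponent
and the size of the group generated by these values, and a twist moves the relators into one
cyclic group.
-/

set_option autoImplicit false

open scoped IsMulCommutative

namespace Cfsg.Lib.CosetEnum.Stem

/-- Each relator is either one of the unknowns or has value zero. -/
def shapeOK (len : Nat) (cun : List Nat) (canVals : List (List Int)) : Bool :=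
  (cun.all fun i => Nat.blt i len) &&
    (List.range len).all fun i => Nat.ble (cun.count i) 1 &&
      decide (canVals.getD i [] = cun.map fun j => cond (Nat.beq j i) (1 : Int) 0)

/-- The combinations give the exponent. -/
def expoOK (R : List (List Nat)) (RV E : List (List Int)) (dim m : Nat)
    (ec : List (List Int × List (Nat × Nat × Int))) : Bool :=
  (List.range (units dim m).length).all fun u =>
    combOK 0 R RV E ((units dim m).getD u []) (ec.getD u ([], [])).1 (ec.getD u ([], [])).2

variable {Q : Type*} [Group Q]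

theorem ev_indicator (v : ℕ → Subgroup.center Q) (i : ℕ) : ∀ cun : List ℕ,
    ev (cun.map v) (cun.map fun j => cond (Nat.beq j i) (1 : ℤ) 0) = v i ^ cun.count i
  | [] => by simp
  | j :: cun => by
    rw [List.map_cons, List.map_cons, ev, ev_indicator v i cun]
    by_cases h : j = i
    · subst h
      rw [List.count_cons_self, show Nat.beq j j = true from Nat.beq_refl j, cond_true, zpow_one, pow_succ']
    · rw [List.count_cons_of_ne h, show Nat.beq j i = false from by
        simpa [← Bool.not_eq_true, Nat.beq_eq] using h, cond_false, zpow_zero, one_mul]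

/-- One stage: a twist by central involutions after which all relators lie in one cyclic group. -/
theorem stage {G : Type*} [Group G] {π : Q →* G} (hπ : π.ker ≤ Subgroup.center Q) {y : ℕ → Q}
    (hy : ∀ g, y g * y g = 1) {K : Subgroup Q} (hK : ∀ a ∈ K, π a = 1 → a = 1)
    {can : List (List ℕ)} {canVals : List (List ℤ)} {cun : List ℕ}
    (hker : ∀ i < can.length, π (wordVal y (can.getD i [])) = 1)
    (hshape : shapeOK can.length cun canVals = true)
    (hone : ∀ i < can.length, cun.count i = 0 → wordVal y (can.getD i []) = 1)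
    {cA cB : VCert} (vA : cA.Valid) (vB : cB.Valid) {m : ℕ} (hmA : cA.m = 0) (hmB : cB.m = m)
    {srcA srcB : List (ℕ × ℕ × Bool)} (sA : srcOK can canVals 0 cA.R cA.RV srcA = true)
    (sB : srcOK can canVals 0 cB.R cB.RV srcB = true)
    (hUA : ∀ r ∈ cA.U, wordVal y r ∈ K) (hUB : ∀ r ∈ cB.U, wordVal y r ∈ K)
    {ec : List (List ℤ × List (ℕ × ℕ × ℤ))}
    (hec : expoOK cA.R cA.RV (cA.eqs.map Prod.snd) cun.length m ec = true)
    {lam : List (List ℤ)} {omega mult : List ℤ} {tw lc : List (List ℤ × List (ℕ × ℕ × ℤ))}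
    {oc : List ℤ × List (ℕ × ℕ × ℤ)}
    (ht : twistOK cB.R cB.RV (cA.eqs.map Prod.snd ++ cB.eqs.map Prod.snd ++ units cun.length m) can canVals
      lam omega mult tw lc oc = true) :
    ∃ (y' : ℕ → Q) (w : Q), (∀ g, y' g * y' g = 1) ∧ (∀ g, π (y' g) = π (y g)) ∧ π w = 1 ∧
      w ^ 3 = 1 ∧ (omega.all (fun a => decide (a = 0)) = true → w = 1) ∧
      ∀ i < can.length, wordVal y' (can.getD i []) ∈ Subgroup.zpowers w := by
  classical
  simp only [shapeOK, Bool.and_eq_true, List.all_eq_true, List.mem_range, Nat.blt_eq, Nat.ble_eq,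
    decide_eq_true_eq] at hshape
  obtain ⟨hlt, hsh⟩ := hshape
  let v : ℕ → Subgroup.center Q := fun i =>
    if h : i < can.length then ⟨wordVal y (can.getD i []), hπ (hker i h)⟩ else 1
  let ω := cun.map v
  have hωker : ∀ u ∈ ω, π (u : Q) = 1 := by
    intro u hu
    obtain ⟨i, hi, rfl⟩ := List.mem_map.1 hu
    simp only [v, dif_pos (hlt i hi)]
    exact hker i (hlt i hi)
  have hcan : ∀ i < can.length, wordVal y (can.getD i []) = (ev ω (canVals.getD i []) : Q) := by
    intro i hi
    obtain ⟨h1, h2⟩ := hsh i hi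
    rw [h2, ev_indicator, Subgroup.coe_pow]
    rcases Nat.le_one_iff_eq_zero_or_eq_one.1 h1 with h | h
    · rw [h, pow_zero, hone i hi h]
    · rw [h, pow_one]
      simp only [v, dif_pos hi]
  have hinj : ∀ a : List ℤ, (ev ω a : Q) ∈ K → ev ω a = 1 := fun a ha =>
    Subtype.ext (hK _ ha (map_ev π ω a hωker))
  have h0 : ∀ u ∈ ω, u ^ 0 = 1 := fun u _ => pow_zero u
  have hRA := src_val hy h0 hcan sA
  have hRB := src_val hy h0 hcan sB
  have hEA : ∀ e ∈ cA.eqs.map Prod.snd, ev ω e = 1 := by
    intro e he
    obtain ⟨l, hl, rfl⟩ := List.mem_map.1 he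
    exact vA.kills hy (hmA ▸ h0) hRA K hUA hinj l hl
  have hlen : ω.length = cun.length := List.length_map _
  have hm : ∀ u ∈ ω, u ^ m = 1 := by
    refine pow_eq_one_of_units fun u hu => ?_
    rw [hlen] at hu
    obtain ⟨a, ha, rfl⟩ := List.getElem_of_mem hu
    simp only [expoOK, List.all_eq_true, List.mem_range] at hec
    have := comb_sound h0 hRA hEA (hec a ha)
    rwa [List.getD_eq_getElem _ _ ha] at this
  have hEB : ∀ e ∈ cA.eqs.map Prod.snd ++ cB.eqs.map Prod.snd ++ units cun.length m, ev ω e = 1 := by
    intro e he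
    rcases List.mem_append.1 he with he | he
    · rcases List.mem_append.1 he with he | he
      · exact hEA e he
      · obtain ⟨l, hl, rfl⟩ := List.mem_map.1 he
        exact vB.kills hy (hmB ▸ hm) hRB K hUB hinj l hl
    · exact units_killed hm e (hlen ▸ he)
  obtain ⟨h1, h2, h3⟩ := twist_spec hy hRB hEB hcan ht
  refine ⟨_, (ev ω omega : Q), h1, fun g => ?_, map_ev π ω omega hωker, ?_, ?_, h3⟩
  · rw [map_mul, map_ev π ω _ hωker, one_mul]
  · rw [← Subgroup.coe_pow, h2, Subgroup.coe_one]
  · intro hz
    have hv : vzero 0 omega = true := by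
      simp only [vzero, List.all_eq_true, decide_eq_true_eq] at hz ⊢
      intro a ha
      simp [hz a ha]
    rw [ev_eq_one_of_vzero h0 hv, Subgroup.coe_one]

end Cfsg.Lib.CosetEnum.Stem
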