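import Cfsg.Agent.Lib.CosetEnum.Stem.Stage

/-!
# A stage of a bound on a central kernel by two
-/

set_option autoImplicit false

open scoped IsMulCommutative

namespace Cfsg.Lib.CosetEnum.Stem

/-- Every relator becomes a multiple of `omega` after the twist, the twists have order two and `omega` has
order two. -/
def twistTwoOK (R : List (List Nat)) (RV E : List (List Int)) (can : List (List Nat)) (canVals : List (List Int))
    (lam : List (List Int)) (omega : List Int) (mult : List Int)
    (tw lc : List (List Int × List (Nat × Nat × Int))) (oc : List Int × List (Nat × Nat × Int)) : Bool :=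
  (can.all fun w => w.all fun g => Nat.blt g eps) &&
  ((List.range can.length).all fun i =>
    combOK 0 R RV E (vsub (vadd (canVals.getD i []) (lamSum lam (can.getD i [])))
      (vscale (mult.getD i 0) omega)) (tw.getD i ([], [])).1 (tw.getD i ([], [])).2) &&
  ((List.range lam.length).all fun g =>
    combOK 0 R RV E (vscale 2 (lam.getD g [])) (lc.getD g ([], [])).1 (lc.getD g ([], [])).2) &&
  combOK 0 R RV E (vscale 2 omega) oc.1 oc.2

variable {Q : Type*} [Group Q]

/-- The twisted lifts. -/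
theorem twistTwo_spec {y : ℕ → Q} (hy : ∀ g, y g * y g = 1) {ω : List (Subgroup.center Q)}
    {R : List (List ℕ)} {RV : List (List ℤ)} {E : List (List ℤ)}
    (hR : ∀ j < R.length, wordVal y (R.getD j []) = (ev ω (RV.getD j []) : Q)) (hE : ∀ e ∈ E, ev ω e = 1)
    {can : List (List ℕ)} {canVals : List (List ℤ)}
    (hcan : ∀ i < can.length, wordVal y (can.getD i []) = (ev ω (canVals.getD i []) : Q))
    {lam : List (List ℤ)} {omega mult : List ℤ} {tw lc : List (List ℤ × List (ℕ × ℕ × ℤ))}
    {oc : List ℤ × List (ℕ × ℕ × ℤ)}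
    (h : twistTwoOK R RV E can canVals lam omega mult tw lc oc = true) :
    (∀ g, ((ev ω (lam.getD g []) : Q) * y g) * ((ev ω (lam.getD g []) : Q) * y g) = 1) ∧
      ev ω omega ^ (2 : ℕ) = 1 ∧
      ∀ i < can.length, wordVal (fun g => (ev ω (lam.getD g []) : Q) * y g) (can.getD i []) ∈
        Subgroup.zpowers (ev ω omega : Q) := by
  simp only [twistTwoOK, Bool.and_eq_true, List.all_eq_true, List.mem_range, Nat.blt_eq] at h
  obtain ⟨⟨⟨hlt, htw⟩, hlam⟩, ho⟩ := h
  have h0 : ∀ w ∈ ω, w ^ 0 = 1 := fun w _ => pow_zero w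
  refine ⟨fun g => ?_, ?_, fun i hi => ?_⟩
  · have hz : ev ω (lam.getD g []) ^ (2 : ℤ) = 1 := by
      rcases Nat.lt_or_ge g lam.length with hg | hg
      · rw [← ev_vscale]; exact comb_sound h0 hR hE (hlam g hg)
      · rw [List.getD_eq_default _ _ hg, ev_nil, one_zpow]
    rw [zpow_two] at hz
    set z := ev ω (lam.getD g [])
    calc (z : Q) * y g * ((z : Q) * y g) = (z : Q) * (y g * (z : Q)) * y g := by group
      _ = ((z * z : Subgroup.center Q) : Q) * (y g * y g) := by
        rw [Subgroup.mem_center_iff.1 z.2 (y g), Subgroup.coe_mul]; group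
      _ = 1 := by rw [hz, hy, Subgroup.coe_one, one_mul]
  · have := comb_sound h0 hR hE ho
    rw [ev_vscale] at this
    rw [← zpow_natCast]
    exact this
  · have := comb_sound h0 hR hE (htw i hi)
    rw [ev_vsub, div_eq_one, ev_vadd, ev_vscale] at this
    refine Subgroup.mem_zpowers_iff.2 ⟨mult.getD i 0, ?_⟩
    rw [wordVal_twist y ω lam (fun g hg => (Nat.ne_of_lt (hlt _ (by
      rw [List.getD_eq_getElem _ _ hi]; exact List.getElem_mem _) g hg))), hcan i hi, ← Subgroup.coe_zpow,
      ← this, mul_comm (ev ω (canVals.getD i [])), Subgroup.coe_mul]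

/-- One stage: a twist by central involutions after which all relators lie in one group of order at most two. -/
theorem stageTwo {G : Type*} [Group G] {π : Q →* G} (hπ : π.ker ≤ Subgroup.center Q) {y : ℕ → Q}
    (hy : ∀ g, y g * y g = 1) {K : Subgroup Q} (hK : ∀ a ∈ K, π a = 1 → a = 1)
    {can : List (List ℕ)} {canVals : List (List ℤ)} {cun : List ℕ}
    (hker : ∀ i < can.length, π (wordVal y (can.getD i [])) = 1)
    (hshape : shapeOK can.length cun canVals = true)
    (hone : ∀ i < can.length, cun.count i = 0 → wordVal y (can.getD i []) = 1)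
    {cA cB : VCert} (vA : cA.Valid) (vB : cB.Valid) {m : ℕ} (hmA : cA.m = 0) (hmB : cB.m = m)
    {srcA srcB : List (ℕ × ℕ × Bool)} (sA : srcOK can canVals 0 cA.R cA.RV srcA = true)
    (sB : srcOK can canVals 0 cB.R cB.RV srcB = true)
    (hUA : ∀ r ∈ cA.U, wordVal y r ∈ K) (hUB : ∀ r ∈ cB.U, wordVal y r ∈ K)
    {ec : List (List ℤ × List (ℕ × ℕ × ℤ))}
    (hec : expoOK cA.R cA.RV (cA.eqs.map Prod.snd) cun.length m ec = true)
    {lam : List (List ℤ)} {omega mult : List ℤ} {tw lc : List (List ℤ × List (ℕ × ℕ × ℤ))}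
    {oc : List ℤ × List (ℕ × ℕ × ℤ)}
    (ht : twistTwoOK cB.R cB.RV (cA.eqs.map Prod.snd ++ cB.eqs.map Prod.snd ++ units cun.length m) can canVals
      lam omega mult tw lc oc = true) :
    ∃ (y' : ℕ → Q) (w : Q), (∀ g, y' g * y' g = 1) ∧ (∀ g, π (y' g) = π (y g)) ∧ π w = 1 ∧
      w ^ 2 = 1 ∧ (omega.all (fun a => decide (a = 0)) = true → w = 1) ∧
      ∀ i < can.length, wordVal y' (can.getD i []) ∈ Subgroup.zpowers w := by
  classical
  simp only [shapeOK, Bool.and_eq_true, List.all_eq_true, List.mem_range, Nat.blt_eq, Nat.ble_eq,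
    decide_eq_true_eq] at hshape
  obtain ⟨hlt, hsh⟩ := hshape
  let v : ℕ → Subgroup.center Q := fun i =>
    if h : i < can.length then ⟨wordVal y (can.getD i []), hπ (hker i h)⟩ else 1
  let ω := cun.map v
  have hωker : ∀ u ∈ ω, π (u : Q) = 1 := by
    intro u hu
    obtain ⟨i, hi, rfl⟩ := List.mem_map.1 hu
    simp only [v, dif_pos (hlt i hi)]
    exact hker i (hlt i hi)
  have hcan : ∀ i < can.length, wordVal y (can.getD i []) = (ev ω (canVals.getD i []) : Q) := by
    intro i hi
    obtain ⟨h1, h2⟩ := hsh i hi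
    rw [h2, ev_indicator, Subgroup.coe_pow]
    rcases Nat.le_one_iff_eq_zero_or_eq_one.1 h1 with h | h
    · rw [h, pow_zero, hone i hi h]
    · rw [h, pow_one]
      simp only [v, dif_pos hi]
  have hinj : ∀ a : List ℤ, (ev ω a : Q) ∈ K → ev ω a = 1 := fun a ha =>
    Subtype.ext (hK _ ha (map_ev π ω a hωker))
  have h0 : ∀ u ∈ ω, u ^ 0 = 1 := fun u _ => pow_zero u
  have hRA := src_val hy h0 hcan sA
  have hRB := src_val hy h0 hcan sB
  have hEA : ∀ e ∈ cA.eqs.map Prod.snd, ev ω e = 1 := by
    intro e he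
    obtain ⟨l, hl, rfl⟩ := List.mem_map.1 he
    exact vA.kills hy (hmA ▸ h0) hRA K hUA hinj l hl
  have hlen : ω.length = cun.length := List.length_map _
  have hm : ∀ u ∈ ω, u ^ m = 1 := by
    refine pow_eq_one_of_units fun u hu => ?_
    rw [hlen] at hu
    obtain ⟨a, ha, rfl⟩ := List.getElem_of_mem hu
    simp only [expoOK, List.all_eq_true, List.mem_range] at hec
    have := comb_sound h0 hRA hEA (hec a ha)
    rwa [List.getD_eq_getElem _ _ ha] at this
  have hEB : ∀ e ∈ cA.eqs.map Prod.snd ++ cB.eqs.map Prod.snd ++ units cun.length m, ev ω e = 1 := by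
    intro e he
    rcases List.mem_append.1 he with he | he
    · rcases List.mem_append.1 he with he | he
      · exact hEA e he
      · obtain ⟨l, hl, rfl⟩ := List.mem_map.1 he
        exact vB.kills hy (hmB ▸ hm) hRB K hUB hinj l hl
    · exact units_killed hm e (hlen ▸ he)
  obtain ⟨h1, h2, h3⟩ := twistTwo_spec hy hRB hEB hcan ht
  refine ⟨_, (ev ω omega : Q), h1, fun g => ?_, map_ev π ω omega hωker, ?_, ?_, h3⟩
  · rw [map_mul, map_ev π ω _ hωker, one_mul]
  · rw [← Subgroup.coe_pow, h2, Subgroup.coe_one]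
  · intro hz
    have hv : vzero 0 omega = true := by
      simp only [vzero, List.all_eq_true, decide_eq_true_eq] at hz ⊢
      intro a ha
      simp [hz a ha]
    rw [ev_eq_one_of_vzero h0 hv, Subgroup.coe_one]

end Cfsg.Lib.CosetEnum.Stem
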