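import Cfsg.Agent.Lib.CosetEnum.Stem.Sound

/-!
# Lifts of involutions and their twists by central elements
-/

set_option autoImplicit false

open scoped IsMulCommutative commutatorElement

namespace Cfsg.Lib.CosetEnum.Stem

/-- The sum of the twists along a word. -/
def lamSum (lam : List (List Int)) (w : List Nat) : List Int :=
  w.foldr (fun g acc => vadd (lam.getD g []) acc) []

/-- The unit vectors times `m`. -/
def units (dim m : Nat) : List (List Int) :=
  (List.range dim).map fun a => List.replicate a 0 ++ [Int.ofNat m]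

/-- Every relator becomes a multiple of `omega` after the twist, the twists have order two and `omega` has
order three. -/
def twistOK (R : List (List Nat)) (RV E : List (List Int)) (can : List (List Nat)) (canVals : List (List Int))
    (lam : List (List Int)) (omega : List Int) (mult : List Int)
    (tw lc : List (List Int × List (Nat × Nat × Int))) (oc : List Int × List (Nat × Nat × Int)) : Bool :=
  (can.all fun w => w.all fun g => Nat.blt g eps) &&
  ((List.range can.length).all fun i =>
    combOK 0 R RV E (vsub (vadd (canVals.getD i []) (lamSum lam (can.getD i [])))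
      (vscale (mult.getD i 0) omega)) (tw.getD i ([], [])).1 (tw.getD i ([], [])).2) &&
  ((List.range lam.length).all fun g =>
    combOK 0 R RV E (vscale 2 (lam.getD g [])) (lc.getD g ([], [])).1 (lc.getD g ([], [])).2) &&
  combOK 0 R RV E (vscale 3 omega) oc.1 oc.2

variable {Q : Type*} [Group Q]

theorem ev_replicate_zero : ∀ (ω : List (Subgroup.center Q)) (n : ℕ), ev ω (List.replicate n 0) = 1
  | [], n => by cases List.replicate n (0 : ℤ) <;> rfl
  | w :: ω, 0 => rfl
  | w :: ω, n + 1 => by
    rw [List.replicate_succ, ev, ev_replicate_zero ω n, zpow_zero, one_mul]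

theorem ev_unit : ∀ (ω : List (Subgroup.center Q)) (a n : ℕ) (x : ℤ) (h : a < ω.length),
    ev ω (List.replicate a 0 ++ x :: List.replicate n 0) = ω[a] ^ x
  | w :: ω, 0, n, x, h => by
    rw [List.replicate_zero, List.nil_append, ev, ev_replicate_zero, mul_one]
    rfl
  | w :: ω, a + 1, n, x, h => by
    rw [List.replicate_succ, List.cons_append, ev, zpow_zero, one_mul,
      ev_unit ω a n x (Nat.lt_of_succ_lt_succ h)]
    rfl

/-- If the multiples of the unit vectors are killed, the central elements have that exponent. -/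
theorem pow_eq_one_of_units {ω : List (Subgroup.center Q)} {m : ℕ}
    (h : ∀ u ∈ units ω.length m, ev ω u = 1) : ∀ w ∈ ω, w ^ m = 1 := by
  intro w hw
  obtain ⟨a, ha, rfl⟩ := List.getElem_of_mem hw
  have := h _ (List.mem_map.2 ⟨a, List.mem_range.2 ha, rfl⟩)
  rwa [show [Int.ofNat m] = Int.ofNat m :: List.replicate 0 (0 : ℤ) from rfl, ev_unit ω a 0 _ ha,
    Int.ofNat_eq_natCast, zpow_natCast] at this

theorem units_killed {ω : List (Subgroup.center Q)} {m : ℕ} (h : ∀ w ∈ ω, w ^ m = 1) :
    ∀ u ∈ units ω.length m, ev ω u = 1 := by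
  intro u hu
  obtain ⟨a, ha, rfl⟩ := List.mem_map.1 hu
  rw [show [Int.ofNat m] = Int.ofNat m :: List.replicate 0 (0 : ℤ) from rfl,
    ev_unit ω a 0 _ (List.mem_range.1 ha), Int.ofNat_eq_natCast, zpow_natCast, h _ (List.getElem_mem _)]

theorem map_ev {G : Type*} [Group G] (π : Q →* G) : ∀ (ω : List (Subgroup.center Q)) (a : List ℤ),
    (∀ w ∈ ω, π (w : Q) = 1) → π (ev ω a : Q) = 1
  | [], a, _ => by cases a <;> exact map_one π
  | w :: ω, [], _ => map_one π
  | w :: ω, x :: a, h => by
    rw [ev, Subgroup.coe_mul, map_mul, Subgroup.coe_zpow, map_zpow, h w (List.mem_cons_self ..), one_zpow,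
      one_mul, map_ev π ω a fun v hv => h v (List.mem_cons_of_mem _ hv)]

theorem wordVal_twist (y : ℕ → Q) (ω : List (Subgroup.center Q)) (lam : List (List ℤ)) :
    ∀ {w : List ℕ}, (∀ g ∈ w, g ≠ eps) →
      wordVal (fun g => (ev ω (lam.getD g []) : Q) * y g) w =
        (ev ω (lamSum lam w) : Q) * wordVal y w
  | [], _ => by simp [wordVal, lamSum]
  | g :: w, h => by
    have hg : g ≠ eps := h g (by simp)
    rw [wordVal, wordVal, wordVal_twist y ω lam (fun a ha => h a (by simp [ha])), gen, gen, if_neg hg,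
      if_neg hg]
    have e : lamSum lam (g :: w) = vadd (lam.getD g []) (lamSum lam w) := rfl
    rw [e, ev_vadd, Subgroup.coe_mul]
    set z := (ev ω (lam.getD g []) : Subgroup.center Q)
    set q := wordVal y w
    set p := (ev ω (lamSum lam w) : Subgroup.center Q)
    calc (p : Q) * q * ((z : Q) * y g) = (p : Q) * (q * (z : Q)) * y g := by group
      _ = ((p : Q) * (z : Q)) * q * y g := by rw [Subgroup.mem_center_iff.1 z.2 q]; group
      _ = (z : Q) * (p : Q) * (q * y g) := by rw [Subgroup.mem_center_iff.1 z.2 (p : Q)]; group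

/-- The twisted lifts. -/
theorem twist_spec {y : ℕ → Q} (hy : ∀ g, y g * y g = 1) {ω : List (Subgroup.center Q)}
    {R : List (List ℕ)} {RV : List (List ℤ)} {E : List (List ℤ)}
    (hR : ∀ j < R.length, wordVal y (R.getD j []) = (ev ω (RV.getD j []) : Q)) (hE : ∀ e ∈ E, ev ω e = 1)
    {can : List (List ℕ)} {canVals : List (List ℤ)}
    (hcan : ∀ i < can.length, wordVal y (can.getD i []) = (ev ω (canVals.getD i []) : Q))
    {lam : List (List ℤ)} {omega mult : List ℤ} {tw lc : List (List ℤ × List (ℕ × ℕ × ℤ))}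
    {oc : List ℤ × List (ℕ × ℕ × ℤ)}
    (h : twistOK R RV E can canVals lam omega mult tw lc oc = true) :
    (∀ g, ((ev ω (lam.getD g []) : Q) * y g) * ((ev ω (lam.getD g []) : Q) * y g) = 1) ∧
      ev ω omega ^ (3 : ℕ) = 1 ∧
      ∀ i < can.length, wordVal (fun g => (ev ω (lam.getD g []) : Q) * y g) (can.getD i []) ∈
        Subgroup.zpowers (ev ω omega : Q) := by
  simp only [twistOK, Bool.and_eq_true, List.all_eq_true, List.mem_range, Nat.blt_eq] at h
  obtain ⟨⟨⟨hlt, htw⟩, hlam⟩, ho⟩ := h
  have h0 : ∀ w ∈ ω, w ^ 0 = 1 := fun w _ => pow_zero w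
  refine ⟨fun g => ?_, ?_, fun i hi => ?_⟩
  · have hz : ev ω (lam.getD g []) ^ (2 : ℤ) = 1 := by
      rcases Nat.lt_or_ge g lam.length with hg | hg
      · rw [← ev_vscale]; exact comb_sound h0 hR hE (hlam g hg)
      · rw [List.getD_eq_default _ _ hg, ev_nil, one_zpow]
    rw [zpow_two] at hz
    set z := ev ω (lam.getD g [])
    calc (z : Q) * y g * ((z : Q) * y g) = (z : Q) * (y g * (z : Q)) * y g := by group
      _ = ((z * z : Subgroup.center Q) : Q) * (y g * y g) := by
        rw [Subgroup.mem_center_iff.1 z.2 (y g), Subgroup.coe_mul]; group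
      _ = 1 := by rw [hz, hy, Subgroup.coe_one, one_mul]
  · have := comb_sound h0 hR hE ho
    rw [ev_vscale] at this
    rw [← zpow_natCast]
    exact this
  · have := comb_sound h0 hR hE (htw i hi)
    rw [ev_vsub, div_eq_one, ev_vadd, ev_vscale] at this
    refine Subgroup.mem_zpowers_iff.2 ⟨mult.getD i 0, ?_⟩
    rw [wordVal_twist y ω lam (fun g hg => (Nat.ne_of_lt (hlt _ (by
      rw [List.getD_eq_getElem _ _ hi]; exact List.getElem_mem _) g hg))), hcan i hi, ← Subgroup.coe_zpow,
      ← this, mul_comm (ev ω (canVals.getD i [])), Subgroup.coe_mul]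

/-- The lifts of involutions are involutions in an enlarged central extension. -/
theorem exists_involution_lifts {G E : Type} [Group G] [Group E] {σ : E →* G} (hσ : Function.Surjective σ)
    (hker : σ.ker ≤ Subgroup.center E) {k : ℕ} {x : ℕ → G} (hx : ∀ g, x g * x g = 1) :
    ∃ (Q : Type) (_ : Group Q) (π : Q →* G) (ι : E →* Q) (y : ℕ → Q), π.ker ≤ Subgroup.center Q ∧
      Function.Injective ι ∧ π.comp ι = σ ∧ (∀ g, y g * y g = 1) ∧ ∀ g < k, π (y g) = x g := by
  classical
  choose t ht using fun g : Fin k => hσ (x g.1)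
  have hz : ∀ g, t g * t g ∈ Subgroup.center E := fun g => hker (by
    rw [MonoidHom.mem_ker, map_mul, ht, hx])
  let M := Multiplicative (Fin k → ℤ)
  let ψ : M →* E × M :=
    { toFun := fun v => (((∏ g, (⟨_, hz g⟩ : Subgroup.center E) ^ (Multiplicative.toAdd v g)) :
          Subgroup.center E), v ^ (-2 : ℤ))
      map_one' := by simp
      map_mul' := fun u v => Prod.ext (by
        rw [Prod.fst_mul, ← Subgroup.coe_mul, ← Finset.prod_mul_distrib]
        exact congrArg Subtype.val (Finset.prod_congr rfl fun g _ => zpow_add _ _ _)) (mul_zpow u v _) }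
  have hψc : ψ.range ≤ Subgroup.center (E × M) := by
    rintro _ ⟨v, rfl⟩
    refine Subgroup.mem_center_iff.2 fun u => Prod.ext ?_ (mul_comm _ _)
    exact Subgroup.mem_center_iff.1 (SetLike.coe_mem _) u.1
  have : ψ.range.Normal := ⟨fun u hu v => by
    rw [Subgroup.mem_center_iff.1 (hψc hu) v, mul_inv_cancel_right]; exact hu⟩
  have hle : ψ.range ≤ (σ.comp (MonoidHom.fst E M)).ker := by
    rintro _ ⟨v, rfl⟩
    show σ _ = 1
    have : ∀ u : Subgroup.center E, u ∈ Subgroup.closure (Set.range fun g => (⟨_, hz g⟩ : Subgroup.center E)) →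
        σ (u : E) = 1 := by
      intro u hu
      induction hu using Subgroup.closure_induction with
      | mem w hw => obtain ⟨g, rfl⟩ := hw; show σ (t g * t g) = 1; rw [map_mul, ht, hx]
      | one => exact map_one σ
      | mul a b _ _ ha hb => rw [Subgroup.coe_mul, map_mul, ha, hb, one_mul]
      | inv a _ ha => rw [Subgroup.coe_inv, map_inv, ha, inv_one]
    exact this _ (prod_mem fun g _ => zpow_mem (Subgroup.subset_closure (Set.mem_range_self g)) _)
  let π : (E × M) ⧸ ψ.range →* G := QuotientGroup.lift ψ.range (σ.comp (MonoidHom.fst E M)) hle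
  let mk' := QuotientGroup.mk' ψ.range
  let ι : E →* (E × M) ⧸ ψ.range := mk'.comp (MonoidHom.inl E M)
  let ev1 : Fin k → M := fun g => Multiplicative.ofAdd (Pi.single g 1)
  refine ⟨_, inferInstance, π, ι,
    fun g => if h : g < k then mk' (t ⟨g, h⟩, (ev1 ⟨g, h⟩)⁻¹) else 1, ?_, ?_, ?_, ?_, ?_⟩
  · intro u hu
    obtain ⟨⟨e, c⟩, rfl⟩ := QuotientGroup.mk'_surjective ψ.range u
    rw [Subgroup.mem_center_iff]
    intro v
    obtain ⟨v, rfl⟩ := QuotientGroup.mk'_surjective ψ.range v
    rw [← map_mul, ← map_mul]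
    exact congrArg mk' (Prod.ext (Subgroup.mem_center_iff.1 (hker hu) v.1) (mul_comm _ _))
  · refine (injective_iff_map_eq_one ι).2 fun e he => ?_
    obtain ⟨v, hv⟩ := (QuotientGroup.eq_one_iff _).1 he
    have hv2 : v ^ (-2 : ℤ) = 1 := congrArg Prod.snd hv
    have hv1 : v = 1 := by
      apply Multiplicative.toAdd.injective
      funext g
      have := congrArg (fun u : M => Multiplicative.toAdd u g) hv2
      change (-2 : ℤ) * Multiplicative.toAdd v g = 0 at this
      show Multiplicative.toAdd v g = 0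
      omega
    subst hv1
    rw [map_one] at hv
    exact (congrArg Prod.fst hv).symm
  · ext e; rfl
  · intro g
    by_cases h : g < k
    · simp only [dif_pos h]
      rw [← map_mul]
      refine (QuotientGroup.eq_one_iff _).2 ⟨ev1 ⟨g, h⟩, ?_⟩
      refine Prod.ext ?_ ?_
      · show ((∏ a, _ ^ (Pi.single (⟨g, h⟩ : Fin k) (1 : ℤ) : Fin k → ℤ) a : Subgroup.center E) : E) = _
        rw [Finset.prod_eq_single (⟨g, h⟩ : Fin k) (fun a _ ha => by rw [Pi.single_eq_of_ne ha, zpow_zero])
          (fun hh => absurd (Finset.mem_univ _) hh), Pi.single_eq_same, zpow_one]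
        rfl
      · show ev1 ⟨g, h⟩ ^ (-2 : ℤ) = (ev1 ⟨g, h⟩)⁻¹ * (ev1 ⟨g, h⟩)⁻¹
        rw [show (-2 : ℤ) = -1 + -1 by norm_num, zpow_add, zpow_neg_one]
    · simp [dif_neg h]
  · intro g h
    simp only [dif_pos h]
    exact ht ⟨g, h⟩

/-- An element of the kernel in the derived subgroup lies in any central subgroup modulo which the lifts
satisfy a presentation. -/
theorem ker_commutator_le_of_pres {G : Type} [Group G] {Q : Type} [Group Q] {π : Q →* G}
    (hπ : π.ker ≤ Subgroup.center Q) {k : ℕ} {x : ℕ → G}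
    (hgen : Subgroup.closure (x '' {g | g < k}) = ⊤) {y : ℕ → Q} (hy : ∀ g, y g * y g = 1)
    (hxy : ∀ g < k, π (y g) = x g) {R : List (List ℕ)}
    (hpres : ∀ (M : Type) [Group M] (y : ℕ → M), (∀ g, y g * y g = 1) → (∀ r ∈ R, wordVal y r = 1) →
      ∃ s : G →* M, ∀ g < k, s (x g) = y g)
    {Z : Subgroup Q} (hZ : Z ≤ π.ker) (hR : ∀ r ∈ R, wordVal y r ∈ Z) :
    π.ker ⊓ commutator Q ≤ Z := by
  have hZc : Z ≤ Subgroup.center Q := hZ.trans hπ
  have : Z.Normal := ⟨fun a ha u => by
    rw [Subgroup.mem_center_iff.1 (hZc ha) u, mul_inv_cancel_right]; exact ha⟩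
  let m := QuotientGroup.mk' Z
  have hm : ∀ a ∈ Z, m a = 1 := fun a ha => (QuotientGroup.eq_one_iff a).2 ha
  obtain ⟨s, hs⟩ := hpres (Q ⧸ Z) (fun g => m (y g)) (fun g => by rw [← map_mul, hy, map_one])
    (fun r hr => by rw [← map_wordVal m y r]; exact hm _ (hR r hr))
  let π' : Q ⧸ Z →* G := QuotientGroup.lift Z π hZ
  have hπs : π'.comp s = MonoidHom.id G := by
    refine MonoidHom.eq_of_eqOn_dense hgen ?_
    rintro _ ⟨g, hg, rfl⟩
    show π' (s (x g)) = x g
    rw [hs g hg]
    exact hxy g hg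
  have hdec : ∀ q : Q, ∀ u : Q ⧸ Z, u * ((m q)⁻¹ * s (π q)) = (m q)⁻¹ * s (π q) * u := by
    intro q u
    obtain ⟨u, rfl⟩ := QuotientGroup.mk'_surjective Z u
    obtain ⟨z, hz⟩ := QuotientGroup.mk'_surjective Z ((m q)⁻¹ * s (π q))
    have hzk : π z = 1 := by
      have := congrArg π' hz
      rw [map_mul, map_inv, show π' (s (π q)) = π q from DFunLike.congr_fun hπs (π q),
        show π' (m q) = π q from rfl, inv_mul_cancel] at this
      exact this
    rw [← hz, ← map_mul, ← map_mul, Subgroup.mem_center_iff.1 (hπ hzk) u]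
  rintro a ⟨ha, ha'⟩
  have hcs : ∀ c ∈ commutator Q, m c = s (π c) := by
    intro c hc
    have hle : commutator Q ≤ MonoidHom.eqLocus m (s.comp π) := by
      rw [commutator_def, Subgroup.commutator_le]
      intro a _ b _
      show m ⁅a, b⁆ = s (π ⁅a, b⁆)
      rw [map_commutatorElement, map_commutatorElement, map_commutatorElement]
      generalize hu : (m a)⁻¹ * s (π a) = u
      generalize hv : (m b)⁻¹ * s (π b) = v
      have ea : s (π a) = m a * u := by rw [← hu]; group
      have eb : s (π b) = m b * v := by rw [← hv]; group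
      have cu := fun t => hu ▸ hdec a t
      have cv := fun t => hv ▸ hdec b t
      rw [ea, eb, commutatorElement_def, commutatorElement_def, mul_inv_rev, mul_inv_rev]
      symm
      calc m a * u * (m b * v) * (u⁻¹ * (m a)⁻¹) * (v⁻¹ * (m b)⁻¹)
          = m a * (u * (m b * v)) * u⁻¹ * (m a)⁻¹ * v⁻¹ * (m b)⁻¹ := by group
        _ = m a * m b * (v * (m a)⁻¹) * v⁻¹ * (m b)⁻¹ := by rw [← cu]; group
        _ = m a * m b * (m a)⁻¹ * (m b)⁻¹ := by rw [← cv]; group
    exact hle hc
  have := hcs a ha'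
  rw [show π a = 1 from ha, map_one] at this
  exact (QuotientGroup.eq_one_iff a).1 this

end Cfsg.Lib.CosetEnum.Stem
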